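import Groth.Agent.RelFlatLib.LpullStalk
import Groth.Agent.TorLocLib.Square

/-!
# Tor amplitude and flat change of the base ring
-/

set_option autoImplicit false
set_option linter.all false
set_option backward.isDefEq.respectTransparency false
set_option backward.isDefEq.respectTransparency.types false

universe u

open CategoryTheory CategoryTheory.Limits HomologicalComplex MonoidalCategory TensorProduct
open Groth.Agent
open TwoTermLib.RelAmp (resCx)

attribute [local instance] HasDerivedCategory.standard

noncomputable section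

namespace BaseAmpLib

variable {A A' B B' C : Type u} [CommRing A] [CommRing A'] [CommRing B] [CommRing B'] [CommRing C]

/-- A flat map has tor dimension zero. -/
theorem amp_unit_of_flat (r : B' →+* C) (hr : r.Flat) :
    DRing.HasTorAmplitudeIn B' (-((0 : ℕ) : ℤ)) 0
      (DerivedCategory.Q.obj ((single (ModuleCat.{u} B') (ComplexShape.up ℤ) 0).obj
        ((ModuleCat.restrictScalars.{u} r).obj (𝟙_ (ModuleCat.{u} C))))) := by
  refine ⟨_, fun i hi => isZero_single_obj_X (ComplexShape.up ℤ) 0 _ i (by omega), fun i => ?_, ⟨Iso.refl _⟩⟩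
  let N := (ModuleCat.restrictScalars.{u} r).obj (𝟙_ (ModuleCat.{u} C))
  haveI hN : Module.Flat B' N := hr
  rcases eq_or_ne i 0 with rfl | hi
  · exact Module.Flat.of_linearEquiv (singleObjXSelf (ComplexShape.up ℤ) 0 N).toLinearEquiv
  · haveI := ModuleCat.subsingleton_of_isZero (isZero_single_obj_X (ComplexShape.up ℤ) 0 N i hi)
    exact inferInstance

/-- Tor amplitude is preserved by flat change of the base followed by a flat map. -/
theorem amp_flat_baseChange (φ : A →+* B) (ι : A →+* A') (κ : B →+* B') (χ : A' →+* B')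
    (w : κ.comp φ = χ.comp ι) (hsq : TorLocLib.IsPushSq φ ι κ χ w) (hι : ι.Flat)
    (r : B' →+* C) (hr : r.Flat) (ψ : B →+* C) (φ' : A' →+* C) (h₁ : r.comp κ = ψ) (h₂ : r.comp χ = φ')
    {P : CochainComplex (ModuleCat.{u} B) ℤ} (hP : DRing.IsKFlat B P) {a b : ℤ}
    (h : DRing.HasTorAmplitudeIn A a b (DerivedCategory.Q.obj ((resCx φ).obj P))) :
    DRing.HasTorAmplitudeIn A' a b
      (DerivedCategory.Q.obj ((resCx φ').obj ((DRingLib.extCx ψ).obj P))) := by
  have h' : DRing.HasTorAmplitudeIn A' a b
      (DerivedCategory.Q.obj ((resCx χ).obj ((DRingLib.extCx κ).obj P))) :=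
    DRingLib.hasTorAmplitudeIn_of_iso
      (DerivedCategory.Q.mapIso (TorLocLib.sqCxIso φ ι κ χ w hsq P))
      (DRingLib.hasTorAmplitudeIn_extCx ι hι h)
  have h'' := RelFlatLib.amp_res_extCx χ r (χ := φ') h₂.symm (amp_unit_of_flat r hr)
    (KFlatLib.isKFlat_extend κ hP) h'
  rw [Nat.cast_zero, sub_zero] at h''
  exact DRingLib.hasTorAmplitudeIn_of_iso
    (DerivedCategory.Q.mapIso ((resCx φ').mapIso (TwoTermLib.RelAmp.extCompIso κ r h₁.symm P))) h''

/-- A ring which is additively the tensor product gives a pushout square. -/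
theorem isPushSq_of_equiv (φ : A →+* B) (ι : A →+* A') (κ : B →+* B') (χ : A' →+* B')
    (w : κ.comp φ = χ.comp ι)
    (e : letI := φ.toAlgebra; letI := ι.toAlgebra; A' ⊗[A] B ≃+ B')
    (he : letI := φ.toAlgebra; letI := ι.toAlgebra; ∀ s b, e (s ⊗ₜ b) = χ s * κ b) :
    TorLocLib.IsPushSq φ ι κ χ w := by
  unfold TorLocLib.IsPushSq
  letI := φ.toAlgebra
  letI := ι.toAlgebra
  letI := κ.toAlgebra
  letI := χ.toAlgebra
  letI := (κ.comp φ).toAlgebra
  haveI : IsScalarTower A B B' := IsScalarTower.of_algebraMap_eq fun _ => rfl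
  haveI : IsScalarTower A A' B' := IsScalarTower.of_algebraMap_eq fun x => RingHom.congr_fun w x
  refine ⟨IsBaseChange.of_equiv
    { toFun := fun x => e x
      invFun := fun x => e.symm x
      map_add' := e.map_add
      map_smul' := fun r x => ?_
      left_inv := e.symm_apply_apply
      right_inv := e.apply_symm_apply } fun x => ?_⟩
  · induction x using TensorProduct.induction_on with
    | zero => simp
    | add x y hx hy => simp_all [smul_add]
    | tmul s m =>
      show e ((r * s) ⊗ₜ m) = χ r * e (s ⊗ₜ m)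
      rw [he, he, map_mul, mul_assoc]
  · show e (1 ⊗ₜ x) = κ x
    rw [he, map_one, one_mul]

/-- The tensor product of algebras is a pushout square. -/
theorem isPushSq_tensor (φ : A →+* B) (ι : A →+* A') :
    letI := φ.toAlgebra
    letI := ι.toAlgebra
    TorLocLib.IsPushSq φ ι (Algebra.TensorProduct.includeRight : B →ₐ[A] A' ⊗[A] B).toRingHom
      (Algebra.TensorProduct.includeLeftRingHom : A' →+* A' ⊗[A] B)
      (RingHom.ext fun a => by
        letI := φ.toAlgebra
        letI := ι.toAlgebra
        exact ((Algebra.TensorProduct.includeRight : B →ₐ[A] A' ⊗[A] B).commutes a)) := by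
  letI := φ.toAlgebra
  letI := ι.toAlgebra
  exact isPushSq_of_equiv φ ι _ _ _ (AddEquiv.refl _) fun s b => by simp

end BaseAmpLib
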