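import Groth.Agent.RelPCSchLib.BaseChange
import Groth.Agent.RelPCSchLib.Main
import Groth.Agent.BaseAmpLib.Ring
import Groth.Agent.LpullTildeLib.Main
import Groth.Agent.PerfFibreLib.Spec
import Groth.Agent.Dual3Lib.Transform
import Groth.Agent.TorLocLib.Restr

/-!
# Relative pseudo-coherence and flat base change
-/

set_option autoImplicit false
set_option linter.all false
set_option backward.isDefEq.respectTransparency false
set_option backward.isDefEq.respectTransparency.types false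
set_option maxHeartbeats 1000000

universe u

open CategoryTheory CategoryTheory.Limits AlgebraicGeometry Opposite TensorProduct
open Groth.Agent

attribute [local instance] HasDerivedCategory.standard

noncomputable section

namespace BaseAmpLib

theorem pv_isPushout {P Q P' Q' : Type u} [CommRing P] [CommRing Q] [CommRing P'] [CommRing Q']
    [Algebra P Q] [Algebra P P'] [Algebra Q Q'] [Algebra P' Q'] [Algebra P Q'] [IsScalarTower P Q Q']
    [IsScalarTower P P' Q'] [Algebra.IsPushout P P' Q Q'] [Module.Flat P P']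
    [DRing.HasLBaseChange (algebraMap Q Q')] {k : ℤ}
    (M : Dual.D Q) (h : RelPCLib.PV (algebraMap P Q) k M) :
    RelPCLib.PV (algebraMap P' Q') k ((DRing.LBaseChange (algebraMap Q Q')).obj M) := by
  have w : (algebraMap Q Q').comp (algebraMap P Q) = (algebraMap P' Q').comp (algebraMap P P') :=
    (IsScalarTower.algebraMap_eq P Q Q').symm.trans (IsScalarTower.algebraMap_eq P P' Q')
  have hsq : TorLocLib.IsPushSq (algebraMap P Q) (algebraMap P P') (algebraMap Q Q') (algebraMap P' Q') w := by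
    unfold TorLocLib.IsPushSq
    convert (inferInstance : Algebra.IsPushout P P' Q Q') using 1
    all_goals exact Algebra.algebra_ext _ _ fun x => by first | rfl | exact (IsScalarTower.algebraMap_apply P Q Q' x).symm
  obtain ⟨K, hK, ⟨e⟩⟩ := DRingLib.exists_good_rep M
  exact DRingLib.isPseudoCoherent_of_iso
    (DerivedCategory.Q.mapIso (TorLocLib.sqCxIso _ _ _ _ w hsq K) ≪≫
      (TorLocLib.restrictDQ (algebraMap P' Q') _).symm ≪≫
      (DRing.restrictD (algebraMap P' Q')).mapIso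
        ((DRingLib.lBaseChangeObjIso (algebraMap Q Q') K hK.1).symm ≪≫
          (DRing.LBaseChange (algebraMap Q Q')).mapIso e))
    (DRingLib.isPseudoCoherent_extCx (algebraMap P P') (RingHom.flat_algebraMap_iff.2 inferInstance)
      (DRingLib.isPseudoCoherent_of_iso
        ((DRing.restrictD (algebraMap P Q)).mapIso e.symm ≪≫ TorLocLib.restrictDQ (algebraMap P Q) K) h))

theorem exists_pres_pv {R R' Q Q' : Type u} [CommRing R] [CommRing R'] [CommRing Q] [CommRing Q']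
    [Algebra R R'] [Algebra R Q] [Algebra R Q'] [Algebra R' Q'] [Algebra Q Q'] [IsScalarTower R Q Q']
    [IsScalarTower R R' Q'] [Algebra.IsPushout R Q R' Q'] [Module.Flat R R'] {n : ℕ} {k : ℤ}
    (φ : MvPolynomial (Fin n) R →ₐ[R] Q) (hφ : Function.Surjective φ) [DRing.HasLBaseChange (algebraMap Q Q')]
    (M : Dual.D Q) (h : RelPCLib.PV φ.toRingHom k M) :
    ∃ φ' : MvPolynomial (Fin n) R' →ₐ[R'] Q', Function.Surjective φ' ∧
      RelPCLib.PV φ'.toRingHom k ((DRing.LBaseChange (algebraMap Q Q')).obj M) := by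
  let φ' : MvPolynomial (Fin n) R' →ₐ[R'] Q' :=
    MvPolynomial.aeval fun i => algebraMap Q Q' (φ (MvPolynomial.X i))
  letI : Algebra (MvPolynomial (Fin n) R) Q := φ.toRingHom.toAlgebra
  letI : Algebra (MvPolynomial (Fin n) R') Q' := φ'.toRingHom.toAlgebra
  letI : Algebra (MvPolynomial (Fin n) R) (MvPolynomial (Fin n) R') := MvPolynomial.algebraMvPolynomial
  letI : Algebra (MvPolynomial (Fin n) R) Q' :=
    (φ'.toRingHom.comp (MvPolynomial.map (algebraMap R R'))).toAlgebra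
  haveI : IsScalarTower R (MvPolynomial (Fin n) R) Q :=
    IsScalarTower.of_algebraMap_eq fun r => (φ.commutes r).symm
  haveI : IsScalarTower R' (MvPolynomial (Fin n) R') Q' :=
    IsScalarTower.of_algebraMap_eq fun r => (φ'.commutes r).symm
  haveI : IsScalarTower (MvPolynomial (Fin n) R) (MvPolynomial (Fin n) R') Q' :=
    IsScalarTower.of_algebraMap_eq fun _ => rfl
  haveI : IsScalarTower (MvPolynomial (Fin n) R) Q Q' := by
    refine IsScalarTower.of_algebraMap_eq' (MvPolynomial.ringHom_ext (fun r => ?_) fun i => ?_)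
    · change φ' (MvPolynomial.map (algebraMap R R') (MvPolynomial.C r)) =
        algebraMap Q Q' (φ (MvPolynomial.C r))
      rw [MvPolynomial.map_C, ← MvPolynomial.algebraMap_eq, ← MvPolynomial.algebraMap_eq, φ'.commutes,
        φ.commutes, ← IsScalarTower.algebraMap_apply, ← IsScalarTower.algebraMap_apply]
    · change φ' (MvPolynomial.map (algebraMap R R') (MvPolynomial.X i)) =
        algebraMap Q Q' (φ (MvPolynomial.X i))
      rw [MvPolynomial.map_X]
      exact MvPolynomial.aeval_X _ _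
  haveI : IsScalarTower R (MvPolynomial (Fin n) R') Q' := IsScalarTower.of_algebraMap_eq fun r => by
    rw [IsScalarTower.algebraMap_apply R R' (MvPolynomial (Fin n) R'), ← IsScalarTower.algebraMap_apply R' _ Q',
      ← IsScalarTower.algebraMap_apply R R' Q']
  have hpo : Algebra.IsPushout (MvPolynomial (Fin n) R) Q (MvPolynomial (Fin n) R') Q' :=
    (Algebra.IsPushout.comp_iff (R := R) (S := MvPolynomial (Fin n) R) (R' := R')
      (S' := MvPolynomial (Fin n) R') (T := Q) (T' := Q')).1 inferInstance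
  haveI : Algebra.IsPushout (MvPolynomial (Fin n) R) (MvPolynomial (Fin n) R') Q Q' := hpo.symm
  haveI : Module.Flat (MvPolynomial (Fin n) R) (MvPolynomial (Fin n) R') :=
    Module.Flat.isBaseChange R (MvPolynomial (Fin n) R) R' (MvPolynomial (Fin n) R')
      (inferInstance : Algebra.IsPushout R (MvPolynomial (Fin n) R) R' (MvPolynomial (Fin n) R')).out
  refine ⟨φ', ?_, pv_isPushout (P := MvPolynomial (Fin n) R) (Q := Q) M h⟩
  intro y
  induction y using hpo.out.inductionOn with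
  | zero => exact ⟨0, map_zero _⟩
  | tmul x =>
    exact ⟨x, rfl⟩
  | smul q x hx =>
    obtain ⟨p, rfl⟩ := hx
    obtain ⟨q, rfl⟩ := hφ q
    refine ⟨MvPolynomial.map (algebraMap R R') q * p, ?_⟩
    rw [map_mul, Algebra.smul_def]
    congr 1
    exact IsScalarTower.algebraMap_apply (MvPolynomial (Fin n) R) Q Q' q
  | add x y hx hy =>
    obtain ⟨p, rfl⟩ := hx
    obtain ⟨q, rfl⟩ := hy
    exact ⟨p + q, map_add _ _ _⟩

variable {X Y X' Y' : Scheme.{u}}

attribute [local instance] FlatRelPCLib.tildeExact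

theorem mod_lpull {U : X.Opens} (hU : IsAffineOpen U) (g' : X' ⟶ X) [DCoh.HasLpull g'] {U' : X'.Opens}
    (hU' : IsAffineOpen U') (h : U' ≤ g' ⁻¹ᵁ U) {E : DCoh.D X} {M : Dual.D Γ(X, U)}
    (hM : FlatRelPCLib.Mod E hU M) [DRing.HasLBaseChange (g'.appLE U U' h).hom] :
    FlatRelPCLib.Mod ((DCoh.Lpull g').obj E) hU' ((DRing.LBaseChange (g'.appLE U U' h).hom).obj M) := by
  obtain ⟨eM⟩ := hM
  haveI := fun {A B : Scheme.{u}} (k : A ⟶ B) => KFlatLib.hasLpull k
  obtain ⟨ν⟩ := LpullTildeLib.nonempty_iso (g'.appLE U U' h).hom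
  have hc : Spec.map (g'.appLE U U' h) ≫ hU.fromSpec = hU'.fromSpec ≫ g' :=
    IsAffineOpen.SpecMap_appLE_fromSpec g' hU hU' h
  obtain ⟨a⟩ := Groth.Agent.PerfFibreLib.nonempty_lpull_res hU.fromSpec E
  obtain ⟨b⟩ := Groth.Agent.PerfFibreLib.nonempty_lpull_res hU'.fromSpec ((DCoh.Lpull g').obj E)
  obtain ⟨c⟩ := Dual3Lib.nonempty_lpull_comp (Spec.map (g'.appLE U U' h)) hU.fromSpec E
  obtain ⟨c'⟩ := Dual3Lib.nonempty_lpull_comp hU'.fromSpec g' E
  obtain ⟨d⟩ := Dual3Lib.nonempty_lpull_congr hc E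
  exact ⟨ν.app M ≪≫ (DCoh.Lpull (Spec.map (g'.appLE U U' h))).mapIso (eM ≪≫ a.symm) ≪≫ c ≪≫ d ≪≫
    c'.symm ≪≫ b⟩

theorem rel_lpull_baseChange (f : X ⟶ Y) [LocallyOfFiniteType f] (f' : X' ⟶ Y') [LocallyOfFiniteType f']
    (g' : X' ⟶ X) (g : Y' ⟶ Y) [Flat g] (hc : IsPullback g' f' f g) [DCoh.HasLpull g'] (k : ℤ)
    {E : DCoh.D X} (hq : DCoh.IsQCohD E) (hE : DerSch.IsPseudoCoherentRel f k E) :
    DerSch.IsPseudoCoherentRel f' k ((DCoh.Lpull g').obj E) := by
  refine RelPCSchLib.rel_of_pairs f' {T' | ∃ T : Y.affineOpens, (T' : Y'.Opens) ≤ g ⁻¹ᵁ (T : Y.Opens)} ?_ ?_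
  · intro t
    obtain ⟨T, hT, hxT, -⟩ := exists_isAffineOpen_mem_and_subset (x := g t) (U := ⊤) trivial
    obtain ⟨T', hT', hxT', eT⟩ := exists_isAffineOpen_mem_and_subset (x := t) (U := g ⁻¹ᵁ T) hxT
    exact ⟨⟨T', hT'⟩, ⟨⟨T, hT⟩, eT⟩, hxT'⟩
  · rintro ⟨T', hT'⟩ ⟨⟨T, hT⟩, eT'⟩ x' hx'
    have hsT : f (g' x') ∈ T := by
      rw [← Scheme.Hom.comp_apply, hc.w]
      exact eT' hx'
    obtain ⟨U, hU, hxU, hUT⟩ := exists_isAffineOpen_mem_and_subset (x := g' x') (U := f ⁻¹ᵁ T) hsT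
    have hUT' : U ≤ f ⁻¹ᵁ T := hUT
    obtain ⟨hU', hp⟩ := LCILocusLib.pullback_chart hc hT hT' eT' hU hUT'
    let U' := g' ⁻¹ᵁ U ⊓ f' ⁻¹ᵁ T'
    refine ⟨U', hU', inf_le_right, ⟨hxU, hx'⟩, ?_⟩
    obtain ⟨r, χ, hχ⟩ := RelPCSchLib.exists_isChart f hU hT hUT'
    obtain ⟨M, hM⟩ := FlatRelPCLib.exists_mod hq hU
    have hph : RelPCLib.PV χ k M := (FlatRelPCLib.chartPC_iff hU χ hχ.1 hM k).1
      ((RelPCSchLib.chartPC_iff k E hU T χ hχ.1).2 (RelPCSchLib.rpc_of_rel f hE hU hT hUT' r χ hχ))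
    letI : Algebra Γ(Y, T) Γ(Y', T') := (g.appLE T T' eT').hom.toAlgebra
    letI : Algebra Γ(Y, T) Γ(X, U) := (f.appLE T U hUT').hom.toAlgebra
    letI : Algebra Γ(Y', T') Γ(X', U') := (f'.appLE T' U' inf_le_right).hom.toAlgebra
    letI : Algebra Γ(X, U) Γ(X', U') := (g'.appLE U U' inf_le_left).hom.toAlgebra
    letI : Algebra Γ(Y, T) Γ(X', U') := (f.appLE T U hUT' ≫ g'.appLE U U' inf_le_left).hom.toAlgebra
    haveI : IsScalarTower Γ(Y, T) Γ(X, U) Γ(X', U') := IsScalarTower.of_algebraMap_eq fun _ => rfl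
    haveI : IsScalarTower Γ(Y, T) Γ(Y', T') Γ(X', U') :=
      IsScalarTower.of_algebraMap_eq' (congrArg CommRingCat.Hom.hom hp.w)
    haveI : Algebra.IsPushout Γ(Y, T) Γ(X, U) Γ(Y', T') Γ(X', U') :=
      CommRingCat.isPushout_iff_isPushout.mp hp
    haveI : Module.Flat Γ(Y, T) Γ(Y', T') := g.flat_appLE hT hT' eT'
    haveI := DRingLib.hasLBaseChange (algebraMap Γ(X, U) Γ(X', U'))
    obtain ⟨φ', hφ', hph'⟩ := exists_pres_pv (R := Γ(Y, T)) (R' := Γ(Y', T'))
      (Q := Γ(X, U)) (Q' := Γ(X', U'))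
      ({ χ with commutes' := fun x => RingHom.congr_fun hχ.2 x } :
        MvPolynomial (Fin r) Γ(Y, T) →ₐ[Γ(Y, T)] Γ(X, U)) hχ.1 M hph
    haveI : DRing.HasLBaseChange (g'.appLE U U' inf_le_left).hom := DRingLib.hasLBaseChange _
    exact RelPCSchLib.rpc_of_cpc f' hU' φ'.toRingHom hφ' φ'.comp_algebraMap
      ((RelPCSchLib.chartPC_iff k _ hU' T' φ'.toRingHom hφ').1
        ((FlatRelPCLib.chartPC_iff hU' φ'.toRingHom hφ' (mod_lpull hU g' hU' inf_le_left hM) k).2 hph'))

end BaseAmpLib
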