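import Groth.Agent.BaseAmpLib.Ring
import Groth.Agent.RelFlatLib.Local
import Groth.Agent.AlgSpLib.ReducedStalk

/-!
# Relative tor amplitude and flat base change
-/

set_option autoImplicit false
set_option linter.all false
set_option backward.isDefEq.respectTransparency false
set_option backward.isDefEq.respectTransparency.types false
set_option maxHeartbeats 1000000

universe u

open CategoryTheory CategoryTheory.Limits AlgebraicGeometry TensorProduct
open Groth.Agent

attribute [local instance] HasDerivedCategory.standard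

noncomputable section

namespace BaseAmpLib

variable {X Y X' Y' : Scheme.{u}} {f : X ⟶ Y} {g : Y' ⟶ Y} {f' : X' ⟶ Y'} {g' : X' ⟶ X}
  (hc : IsPullback g' f' f g) (x' : X')

/-- The map of local rings of the bases. -/
def baseMap : Y.presheaf.stalk (f.base (g'.base x')) →+* Y'.presheaf.stalk (f'.base x') :=
  (Y.presheaf.stalkSpecializes (show g.base (f'.base x') ⤳ f.base (g'.base x') from
    (congrArg (fun k : X' ⟶ Y => k.base x') hc.w).symm ▸ specializes_rfl) ≫ g.stalkMap (f'.base x')).hom

theorem flat_baseMap [Flat g] : (baseMap hc x').Flat := by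
  have e : g.base (f'.base x') = f.base (g'.base x') := (congrArg (fun k : X' ⟶ Y => k.base x') hc.w).symm
  have key : ∀ (y : Y) (h : g.base (f'.base x') ⤳ y), g.base (f'.base x') = y →
      (Y.presheaf.stalkSpecializes h ≫ g.stalkMap (f'.base x')).hom.Flat := by
    rintro y h rfl
    rw [Y.presheaf.stalkSpecializes_refl, Category.id_comp]
    exact Flat.stalkMap g (f'.base x')
  exact key _ _ e

theorem baseMap_comm :
    ((f'.stalkMap x').hom).comp (baseMap hc x') = (g'.stalkMap x').hom.comp (f.stalkMap (g'.base x')).hom := by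
  have h1 := Scheme.Hom.stalkMap_congr_hom _ _ hc.w x'
  rw [Scheme.Hom.stalkMap_comp, Scheme.Hom.stalkMap_comp] at h1
  exact (congrArg (fun k => CommRingCat.Hom.hom k) (h1.trans (Category.assoc _ _ _).symm)).symm

/-- The comparison from the tensor product of local rings. -/
def stalkLift :
    letI := (f.stalkMap (g'.base x')).hom.toAlgebra
    letI := (baseMap hc x').toAlgebra
    Y'.presheaf.stalk (f'.base x') ⊗[Y.presheaf.stalk (f.base (g'.base x'))] X.presheaf.stalk (g'.base x') →+*
      X'.presheaf.stalk x' :=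
  letI := (f.stalkMap (g'.base x')).hom.toAlgebra
  letI := (baseMap hc x').toAlgebra
  letI := ((g'.stalkMap x').hom.comp (f.stalkMap (g'.base x')).hom).toAlgebra
  (Algebra.TensorProduct.lift
    ({ (f'.stalkMap x').hom with commutes' := fun r => RingHom.congr_fun (baseMap_comm hc x') r } :
      Y'.presheaf.stalk (f'.base x') →ₐ[Y.presheaf.stalk (f.base (g'.base x'))] X'.presheaf.stalk x')
    ({ (g'.stalkMap x').hom with commutes' := fun r => rfl } :
      X.presheaf.stalk (g'.base x') →ₐ[Y.presheaf.stalk (f.base (g'.base x'))] X'.presheaf.stalk x')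
    fun _ _ => mul_comm _ _).toRingHom

theorem stalkLift_tmul (a : Y'.presheaf.stalk (f'.base x')) (b : X.presheaf.stalk (g'.base x')) :
    letI := (f.stalkMap (g'.base x')).hom.toAlgebra
    letI := (baseMap hc x').toAlgebra
    stalkLift hc x' (a ⊗ₜ b) = (f'.stalkMap x').hom a * (g'.stalkMap x').hom b := by
  letI := (f.stalkMap (g'.base x')).hom.toAlgebra
  letI := (baseMap hc x').toAlgebra
  letI := ((g'.stalkMap x').hom.comp (f.stalkMap (g'.base x')).hom).toAlgebra
  exact Algebra.TensorProduct.lift_tmul _ _ _ a b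

theorem flat_stalkLift : (stalkLift hc x').Flat := by
  let x := g'.base x'
  let y' := f'.base x'
  let A := Y.presheaf.stalk (f.base x)
  let B := X.presheaf.stalk x
  let A' := Y'.presheaf.stalk y'
  letI := (f.stalkMap x).hom.toAlgebra
  letI := (baseMap hc x').toAlgebra
  let iA : CommRingCat.of A' ⟶ CommRingCat.of (A' ⊗[A] B) :=
    CommRingCat.ofHom (Algebra.TensorProduct.includeLeftRingHom : A' →+* A' ⊗[A] B)
  let iB : CommRingCat.of B ⟶ CommRingCat.of (A' ⊗[A] B) :=
    CommRingCat.ofHom (Algebra.TensorProduct.includeRight : B →ₐ[A] A' ⊗[A] B).toRingHom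
  have hcond : (Spec.map iB ≫ X.fromSpecStalk x) ≫ f = (Spec.map iA ≫ Y'.fromSpecStalk y') ≫ g := by
    have e1 : X.fromSpecStalk x ≫ f = Spec.map (f.stalkMap x) ≫ Y.fromSpecStalk (f.base x) :=
      (Scheme.SpecMap_stalkMap_fromSpecStalk f).symm
    have e2 : Y'.fromSpecStalk y' ≫ g = Spec.map (CommRingCat.ofHom (baseMap hc x')) ≫
        Y.fromSpecStalk (f.base x) := by
      rw [← Scheme.SpecMap_stalkMap_fromSpecStalk]
      show _ = Spec.map (Y.presheaf.stalkSpecializes _ ≫ g.stalkMap y') ≫ _
      rw [Spec.map_comp, Category.assoc, Scheme.SpecMap_stalkSpecializes_fromSpecStalk]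
    rw [Category.assoc, Category.assoc, e1, e2, ← Category.assoc, ← Category.assoc, ← Spec.map_comp,
      ← Spec.map_comp]
    congr 2
    exact CommRingCat.hom_ext (RingHom.ext fun a =>
      ((Algebra.TensorProduct.includeRight : B →ₐ[A] A' ⊗[A] B).commutes a))
  let m : Spec (CommRingCat.of (A' ⊗[A] B)) ⟶ X' :=
    hc.lift (Spec.map iB ≫ X.fromSpecStalk x) (Spec.map iA ≫ Y'.fromSpecStalk y') hcond
  haveI : Mono m := ⟨fun {T} a b hab => by
    have hA : a ≫ Spec.map iA = b ≫ Spec.map iA := by
      rw [← cancel_mono (Y'.fromSpecStalk y')]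
      have := congrArg (· ≫ f') hab
      simp only [m, Category.assoc, hc.lift_snd] at this
      simpa using this
    have hB : a ≫ Spec.map iB = b ≫ Spec.map iB := by
      rw [← cancel_mono (X.fromSpecStalk x)]
      have := congrArg (· ≫ g') hab
      simp only [m, Category.assoc, hc.lift_fst] at this
      simpa using this
    rw [← cancel_mono (pullbackSpecIso A A' B).inv]
    refine pullback.hom_ext ?_ ?_
    · rw [Category.assoc, Category.assoc, pullbackSpecIso_inv_fst]
      exact hA
    · rw [Category.assoc, Category.assoc, pullbackSpecIso_inv_snd]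
      exact hB⟩
  let r : Spec (X'.presheaf.stalk x') ⟶ Spec (CommRingCat.of (A' ⊗[A] B)) :=
    Spec.map (CommRingCat.ofHom (stalkLift hc x'))
  have hr : r ≫ m = X'.fromSpecStalk x' := by
    refine hc.hom_ext ?_ ?_
    · rw [Category.assoc, hc.lift_fst, ← Scheme.SpecMap_stalkMap_fromSpecStalk]
      rw [← Category.assoc, ← Spec.map_comp]
      congr 2
      refine CommRingCat.hom_ext (RingHom.ext fun b => ?_)
      show stalkLift hc x' ((1 : A') ⊗ₜ[A] b) = (g'.stalkMap x').hom b
      rw [stalkLift_tmul]
      simp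
    · rw [Category.assoc, hc.lift_snd, ← Scheme.SpecMap_stalkMap_fromSpecStalk]
      rw [← Category.assoc, ← Spec.map_comp]
      congr 2
      refine CommRingCat.hom_ext (RingHom.ext fun a => ?_)
      show stalkLift hc x' (a ⊗ₜ[A] (1 : B)) = (f'.stalkMap x').hom a
      rw [stalkLift_tmul]
      simp
  haveI : Flat (X'.fromSpecStalk x') := AlgSpLib.flat_fromSpecStalk x'
  have hpb : IsPullback r (𝟙 _) m (X'.fromSpecStalk x') :=
    ⟨⟨by rw [hr, Category.id_comp]⟩, ⟨PullbackCone.IsLimit.mk _ (fun s => s.snd)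
      (fun s => by rw [← cancel_mono m, Category.assoc, hr]; exact s.condition.symm)
      (fun s => Category.comp_id _) (fun s l _ h2 => by simpa using h2)⟩⟩
  haveI : Flat r := MorphismProperty.of_isPullback hpb.flip inferInstance
  exact (HasRingHomProperty.Spec_iff (P := @Flat)).1 ‹Flat r›

/-- Flat base change preserves relative tor amplitude. -/
theorem hasTorAmplitudeD_lpull (hc : IsPullback g' f' f g) [Flat g] [DCoh.HasLpull g']
    (F : CochainComplex X.Modules ℤ) (a b : ℤ) (hF : DerSch.HasTorAmplitude f a b F) :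
    DerSch.HasTorAmplitudeD f' a b ((DCoh.Lpull g').obj (DCoh.toD X F)) := by
  obtain ⟨P, hP, ⟨e⟩⟩ := KFlatLib.exists_good_rep (DCoh.toD X F)
  refine RelFlatLib.ampD_lpull_of_kflat g' f' hP.1 e fun x' => ?_
  letI := (f.stalkMap (g'.base x')).hom.toAlgebra
  letI := (baseMap hc x').toAlgebra
  exact amp_flat_baseChange _ _ _ _ _ (isPushSq_tensor (f.stalkMap (g'.base x')).hom (baseMap hc x'))
    (flat_baseMap hc x') (stalkLift hc x') (flat_stalkLift hc x') _ _
    (RingHom.ext fun z => by
      show stalkLift hc x' ((1 : Y'.presheaf.stalk (f'.base x')) ⊗ₜ z) = (g'.stalkMap x').hom z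
      rw [stalkLift_tmul]
      simp)
    (RingHom.ext fun z => by
      show stalkLift hc x' (z ⊗ₜ (1 : X.presheaf.stalk (g'.base x'))) = (f'.stalkMap x').hom z
      rw [stalkLift_tmul]
      simp)
    (KFlatLib.stalks_isKFlat hP.1 _) (RelFlatLib.ampAt_of_iso f e.symm (hF _))

end BaseAmpLib
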